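import Groth.Agent.AlgSpLib.DimFun
import Groth.Prelude.Def_Algz
import Groth.Prelude.Def_Found

/-!
The distance function of a closed subset.
-/

universe u

open CategoryTheory AlgebraicGeometry
open Groth.Agent.EGA43.DimFormula

noncomputable section

namespace Groth.Agent.AlgzDZLib

section Fold

/-- forward recursion computing the value of a system -/
def fold : ∀ k : ℕ, (Fin (k + 1) → ℕ) → (Fin k → ℕ) → ℕ
  | 0, c, _ => c 0
  | k + 1, c, b => c (Fin.last _) + (fold k (c ∘ Fin.castSucc) (b ∘ Fin.castSucc) - b (Fin.last _))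

theorem sum_filter_castSucc {M : Type*} [AddCommMonoid M] {n : ℕ} (i : ℕ) (f : Fin (n + 1) → M) (hi : i ≤ n) :
    ∑ j ∈ Finset.univ.filter (fun j : Fin (n + 1) => i ≤ j.val), f j =
      (∑ j ∈ Finset.univ.filter (fun j : Fin n => i ≤ j.val), f j.castSucc) + f (Fin.last n) := by
  rw [Finset.sum_filter, Finset.sum_filter, Fin.sum_univ_castSucc]
  simp [hi]

theorem sup_eq_fold : ∀ (k : ℕ) (c : Fin (k + 1) → ℕ) (b : Fin k → ℕ),
    (Finset.univ.sup fun i : Fin (k + 1) =>
      (∑ j ∈ Finset.univ.filter (fun j : Fin (k + 1) => i.val ≤ j.val), c j) -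
        ∑ j ∈ Finset.univ.filter (fun j : Fin k => i.val ≤ j.val), b j) = fold k c b
  | 0, c, b => by
    refine le_antisymm (Finset.sup_le fun i _ => ?_) ?_
    · fin_cases i
      simp [fold]
    · refine le_trans ?_ (Finset.le_sup (Finset.mem_univ (0 : Fin 1)))
      simp [fold]
  | k + 1, c, b => by
    have ih := sup_eq_fold k (c ∘ Fin.castSucc) (b ∘ Fin.castSucc)
    have ec : ∀ i : Fin (k + 1), ∑ j ∈ Finset.univ.filter (fun j : Fin (k + 2) => i.val ≤ j.val), c j =
        (∑ j ∈ Finset.univ.filter (fun j : Fin (k + 1) => i.val ≤ j.val), c j.castSucc) + c (Fin.last _) :=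
      fun i => sum_filter_castSucc i.val c (by omega)
    have eb : ∀ i : Fin (k + 1), ∑ j ∈ Finset.univ.filter (fun j : Fin (k + 1) => i.val ≤ j.val), b j =
        (∑ j ∈ Finset.univ.filter (fun j : Fin k => i.val ≤ j.val), b j.castSucc) + b (Fin.last _) :=
      fun i => sum_filter_castSucc i.val b (Nat.lt_succ_iff.1 i.isLt)
    have elast : ∑ j ∈ Finset.univ.filter (fun j : Fin (k + 2) => (Fin.last (k + 1)).val ≤ j.val), c j =
        c (Fin.last _) := by
      rw [show Finset.univ.filter (fun j : Fin (k + 2) => (Fin.last (k + 1)).val ≤ j.val) = {Fin.last _} from ?_,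
        Finset.sum_singleton]
      ext j
      simp [Fin.ext_iff]
      omega
    have elast' : ∑ j ∈ Finset.univ.filter (fun j : Fin (k + 1) => (Fin.last (k + 1)).val ≤ j.val), b j = 0 := by
      refine Finset.sum_eq_zero fun j hj => absurd (Finset.mem_filter.1 hj).2 ?_
      simp
      omega
    rw [fold, ← ih]
    refine le_antisymm (Finset.sup_le fun i _ => ?_) ?_
    · induction i using Fin.lastCases with
      | last => rw [elast, elast']; omega
      | cast i =>
        simp only [Fin.val_castSucc]
        rw [ec, eb]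
        have h := Finset.le_sup (f := fun i : Fin (k + 1) =>
          (∑ j ∈ Finset.univ.filter (fun j : Fin (k + 1) => i.val ≤ j.val), (c ∘ Fin.castSucc) j) -
            ∑ j ∈ Finset.univ.filter (fun j : Fin k => i.val ≤ j.val), (b ∘ Fin.castSucc) j) (Finset.mem_univ i)
        simp only [Function.comp_apply] at h ⊢
        omega
    · obtain ⟨i, -, hi⟩ := Finset.exists_mem_eq_sup Finset.univ Finset.univ_nonempty (fun i : Fin (k + 1) =>
        (∑ j ∈ Finset.univ.filter (fun j : Fin (k + 1) => i.val ≤ j.val), (c ∘ Fin.castSucc) j) -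
          ∑ j ∈ Finset.univ.filter (fun j : Fin k => i.val ≤ j.val), (b ∘ Fin.castSucc) j)
      rw [hi]
      have h1 := Finset.le_sup (f := fun i : Fin (k + 2) =>
          (∑ j ∈ Finset.univ.filter (fun j : Fin (k + 2) => i.val ≤ j.val), c j) -
            ∑ j ∈ Finset.univ.filter (fun j : Fin (k + 1) => i.val ≤ j.val), b j) (Finset.mem_univ i.castSucc)
      have h2 := Finset.le_sup (f := fun i : Fin (k + 2) =>
          (∑ j ∈ Finset.univ.filter (fun j : Fin (k + 2) => i.val ≤ j.val), c j) -
            ∑ j ∈ Finset.univ.filter (fun j : Fin (k + 1) => i.val ≤ j.val), b j) (Finset.mem_univ (Fin.last _))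
      simp only [Fin.val_castSucc] at h1
      rw [elast, elast', Nat.sub_zero] at h2
      rw [ec, eb] at h1
      simp only [Function.comp_apply] at h1 h2 ⊢
      exact le_trans (by omega) (max_le h1 h2)

end Fold

variable {Y : Scheme.{u}}

/-- the prime of a generalization -/
def primeOf (v : Y) (a : Set.Ici (Specialization.toEquiv (v : ↥Y))) : PrimeSpectrum (Y.presheaf.stalk v) :=
  (exists_toPt (x := v) (z := Specialization.ofEquiv a.1) (Specialization.toEquiv_le_toEquiv.1 a.2)).choose

theorem toPt_primeOf (v : Y) (a : Set.Ici (Specialization.toEquiv (v : ↥Y))) :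
    toPt v (primeOf v a) = Specialization.ofEquiv a.1 :=
  (exists_toPt (x := v) (z := Specialization.ofEquiv a.1) (Specialization.toEquiv_le_toEquiv.1 a.2)).choose_spec

/-- specializations as an order -/
def genEquiv (v : Y) :
    Set.Ici (Specialization.toEquiv (v : ↥Y)) ≃o (PrimeSpectrum (Y.presheaf.stalk v))ᵒᵈ where
  toFun a := OrderDual.toDual (primeOf v a)
  invFun P := ⟨Specialization.toEquiv (toPt v (OrderDual.ofDual P)),
    Specialization.toEquiv_le_toEquiv.2 (toPt_specializes v _)⟩
  left_inv a := Subtype.ext (toPt_primeOf v a)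
  right_inv P := congrArg OrderDual.toDual (toPt_injective v (toPt_primeOf v _))
  map_rel_iff' {a b} := by
    show primeOf v b ≤ primeOf v a ↔ a ≤ b
    rw [← toPt_specializes_iff v, toPt_primeOf, toPt_primeOf]
    rfl

theorem coheight_eq_dim_quotient {R : Type u} [CommRing R] (P : PrimeSpectrum R) :
    (Order.coheight P : WithBot ℕ∞) = ringKrullDim (R ⧸ P.asIdeal) := by
  rw [Order.coheight_eq_krullDim_Ici, ringKrullDim_quotient]
  exact Order.krullDim_eq_of_orderIso ⟨Equiv.subtypeEquivRight fun Q => Iff.rfl, Iff.rfl⟩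

theorem codimPt_eq_cod [IsLocallyNoetherian Y] {w v : Y} (h : w ⤳ v) :
    Algz.codimPt w v h = (cod w v : ℕ∞) := by
  obtain ⟨P, rfl⟩ := exists_toPt h
  have e : genEquiv v ⟨Specialization.toEquiv (toPt v P), Specialization.toEquiv_le_toEquiv.mpr h⟩ =
      OrderDual.toDual P :=
    congrArg OrderDual.toDual (toPt_injective v (toPt_primeOf v _))
  rw [Algz.codimPt, ← Order.height_orderIso (genEquiv v), e, Order.height_toDual, cod_toPt]
  haveI := isLocalRing_quotient P.asIdeal P.isPrime.ne_top
  have h1 := coheight_eq_dim_quotient P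
  rw [ringKrullDim_eq_natDim] at h1
  exact_mod_cast h1

theorem cod_le_cod_right [IsLocallyNoetherian Y] {w v u : Y} (h : w ⤳ v) (h' : v ⤳ u) :
    cod w v ≤ cod w u := by
  have h1 := codimPt_eq_cod h
  have h2 := codimPt_eq_cod (h.trans h')
  rw [Algz.codimPt] at h1 h2
  have := Order.height_le_height_apply_of_strictMono
    (fun a : Set.Ici (Specialization.toEquiv (v : ↥Y)) =>
      (⟨a.1, (Specialization.toEquiv_le_toEquiv.2 h').trans a.2⟩ : Set.Ici (Specialization.toEquiv (u : ↥Y))))
    (fun a b hab => hab) ⟨Specialization.toEquiv w, Specialization.toEquiv_le_toEquiv.mpr h⟩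
  exact ENat.natCast_le_natCast.1 (h1 ▸ h2 ▸ this)

variable [IsLocallyNoetherian Y] {Z : Set Y} {y : Y}

def cN {k : ℕ} (S : Algz.DSystem Z y k) : Fin (k + 1) → ℕ := fun i => cod (S.w i) (S.v i)

def bN {k : ℕ} (S : Algz.DSystem Z y k) : Fin k → ℕ := fun i => cod (S.w i.castSucc) (S.v i.succ)

theorem delta_eq {k : ℕ} (S : Algz.DSystem Z y k) :
    S.delta = ((k + fold k (cN S) (bN S) : ℕ) : ℕ∞) := by
  rw [Algz.DSystem.delta, ← sup_eq_fold, Nat.cast_add]
  congr 1
  rw [Finset.comp_sup_eq_sup_comp (fun n : ℕ => (n : ℕ∞)) (fun a b => Nat.mono_cast.map_max) rfl]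
  refine congrArg _ (funext fun i => ?_)
  simp only [Function.comp_apply, ENat.coe_sub, Nat.cast_sum]
  congr 1
  · exact Finset.sum_congr rfl fun j _ => codimPt_eq_cod _
  · exact Finset.sum_congr rfl fun j _ => codimPt_eq_cod _

omit [IsLocallyNoetherian Y] in
theorem deltaZ_le {k : ℕ} (S : Algz.DSystem Z y k) : Algz.deltaZ Z y ≤ S.delta :=
  iInf₂_le k S

theorem exists_system {n : ℕ} (h : Algz.deltaZ Z y = n) :
    ∃ (k : ℕ) (S : Algz.DSystem Z y k), k + fold k (cN S) (bN S) ≤ n := by
  by_contra hne
  push Not at hne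
  have : ((n + 1 : ℕ) : ℕ∞) ≤ Algz.deltaZ Z y := le_iInf₂ fun k S => by
    rw [delta_eq]
    exact ENat.natCast_le_natCast.2 (hne k S)
  rw [h, ENat.natCast_le_natCast] at this
  omega

/-- system of length zero -/
def sysZero {z : Y} (h : y ⤳ z) (hz : z ∈ Z) : Algz.DSystem Z y 0 where
  v := fun _ => z
  w := fun _ => y
  spec := fun _ => h
  spec_succ := fun i => i.elim0
  start_mem := hz
  last_eq := rfl

theorem deltaZ_le_cod {z : Y} (h : y ⤳ z) (hz : z ∈ Z) : Algz.deltaZ Z y ≤ (cod y z : ℕ∞) := by
  refine (deltaZ_le (sysZero h hz)).trans (le_of_eq ?_)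
  rw [delta_eq]
  simp [fold, cN, sysZero]

theorem deltaZ_le_of_specializes (hZ : IsClosed Z) {y' : Y} (h : y ⤳ y') :
    Algz.deltaZ Z y' ≤ Algz.deltaZ Z y := by
  refine le_iInf₂ fun k S => ?_
  rcases eq_or_ne y y' with rfl | hne
  · exact deltaZ_le S
  rw [delta_eq]
  rcases Nat.eq_zero_or_pos (fold k (cN S) (bN S)) with hM | hM
  · -- the last set collapses
    obtain _ | k := k
    · have e : S.v 0 = y := by
        by_contra hv
        have hp : 0 < cod (S.w 0) (S.v 0) :=
          cod_pos (S.spec 0) (by rw [show S.w 0 = y from S.last_eq]; exact Ne.symm hv)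
        simp [fold, cN] at hM
        omega
      refine (deltaZ_le_cod specializes_rfl (hZ.stableUnderSpecialization h (e ▸ S.start_mem))).trans ?_
      rw [cod_self]
      simp
    · simp only [fold, Nat.add_eq_zero_iff] at hM
      have e : S.v (Fin.last _) = y := by
        by_contra hv
        have hp : 0 < cod (S.w (Fin.last _)) (S.v (Fin.last _)) :=
          cod_pos (S.spec _) (by rw [S.last_eq]; exact Ne.symm hv)
        have := hM.1
        simp only [cN] at this
        omega
      let S' : Algz.DSystem Z y' (k + 1) :=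
        { v := Function.update S.v (Fin.last _) y'
          w := Function.update S.w (Fin.last _) y'
          spec := fun i => by
            induction i using Fin.lastCases with
            | last => simp [specializes_rfl]
            | cast i =>
              rw [Function.update_of_ne (Fin.castSucc_lt_last i).ne, Function.update_of_ne (Fin.castSucc_lt_last i).ne]
              exact S.spec _
          spec_succ := fun i => by
            rw [Function.update_of_ne (Fin.castSucc_lt_last i).ne]
            induction i using Fin.lastCases with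
            | last =>
              rw [Fin.succ_last, Function.update_self]
              exact ((S.spec_succ (Fin.last k)).trans (by rw [Fin.succ_last, e]; exact h))
            | cast i =>
              rw [Fin.succ_castSucc, Function.update_of_ne (Fin.castSucc_lt_last i.succ).ne, ← Fin.succ_castSucc]
              exact S.spec_succ _
          start_mem := by
            rw [Function.update_of_ne (Fin.last_pos).ne]
            exact S.start_mem
          last_eq := Function.update_self _ _ _ }
      refine (deltaZ_le S').trans ?_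
      rw [delta_eq, ENat.natCast_le_natCast]
      refine Nat.add_le_add_left ?_ _
      simp only [fold]
      have ec : cN S' ∘ Fin.castSucc = cN S ∘ Fin.castSucc := funext fun i => by
        simp [cN, S', Function.update_of_ne (Fin.castSucc_lt_last i).ne]
      have eb : bN S' ∘ Fin.castSucc = bN S ∘ Fin.castSucc := funext fun i => by
        simp only [bN, S', Function.comp_apply]
        rw [Function.update_of_ne (Fin.castSucc_lt_last i.castSucc).ne, Fin.succ_castSucc,
          Function.update_of_ne (Fin.castSucc_lt_last i.succ).ne]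
      have el : cN S' (Fin.last _) = 0 := by simp [cN, S', cod_self]
      have ebl : bN S (Fin.last k) ≤ bN S' (Fin.last k) := by
        simp only [bN, S', Fin.succ_last, Function.update_self,
          Function.update_of_ne (Fin.castSucc_lt_last (Fin.last k)).ne]
        refine cod_le_cod_right ?_ ?_
        · exact Fin.succ_last k ▸ S.spec_succ (Fin.last k)
        · rw [e]; exact h
      rw [ec, eb, el]
      omega
  · -- append
    let S' : Algz.DSystem Z y' (k + 1) :=
      { v := Fin.snoc S.v y'
        w := Fin.snoc S.w y'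
        spec := fun i => by
          induction i using Fin.lastCases with
          | last => simp [specializes_rfl]
          | cast i => simpa using S.spec i
        spec_succ := fun i => by
          induction i using Fin.lastCases with
          | last => simpa [S.last_eq] using h
          | cast i =>
            rw [Fin.succ_castSucc, Fin.snoc_castSucc, Fin.snoc_castSucc]
            exact S.spec_succ i
        start_mem := by
          rw [show (0 : Fin (k + 2)) = Fin.castSucc 0 from rfl, Fin.snoc_castSucc]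
          exact S.start_mem
        last_eq := Fin.snoc_last _ _ }
    refine (deltaZ_le S').trans ?_
    rw [delta_eq, ENat.natCast_le_natCast]
    simp only [fold]
    have ec : cN S' ∘ Fin.castSucc = cN S := funext fun i => by simp [cN, S']
    have eb : bN S' ∘ Fin.castSucc = bN S := funext fun i => by
      simp only [bN, S', Function.comp_apply]
      rw [Fin.snoc_castSucc, Fin.succ_castSucc, Fin.snoc_castSucc]
    have el : cN S' (Fin.last _) = 0 := by simp [cN, S', cod_self]
    have ebl : 1 ≤ bN S' (Fin.last k) := by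
      simp only [bN, S', Fin.succ_last, Fin.snoc_last, Fin.snoc_castSucc, S.last_eq]
      exact cod_pos h hne
    rw [ec, eb, el]
    omega

theorem deltaZ_le_of_zigzag (k : ℕ) (y : Fin (k + 1) → Y) (y' : Fin k → Y) (h0 : y 0 ∈ Z)
    (hdown : ∀ i : Fin k, y' i ⤳ y i.castSucc ∧ y' i ≠ y i.castSucc ∧
      ∀ z : Y, y' i ⤳ z → z ⤳ y i.castSucc → z = y' i ∨ z = y i.castSucc)
    (hup : ∀ i : Fin k, y' i ⤳ y i.succ ∧ y' i ≠ y i.succ) :
    Algz.deltaZ Z (y (Fin.last k)) ≤ k := by
  let S : Algz.DSystem Z (y (Fin.last k)) k :=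
    { v := y
      w := Fin.snoc y' (y (Fin.last k))
      spec := fun i => by
        induction i using Fin.lastCases with
        | last => simp [specializes_rfl]
        | cast i => simpa using (hdown i).1
      spec_succ := fun i => by simpa using (hup i).1
      start_mem := h0
      last_eq := Fin.snoc_last _ _ }
  refine (deltaZ_le S).trans ?_
  rw [delta_eq, ENat.natCast_le_natCast]
  have hc : ∀ i : Fin k, cN S i.castSucc ≤ 1 := fun i => by
    simp only [cN, S, Fin.snoc_castSucc]
    obtain ⟨h1, -, h3⟩ := hdown i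
    obtain ⟨P, hP⟩ := exists_toPt h1
    rw [← hP, cod_toPt]
    haveI := isLocalRing_quotient P.asIdeal P.isPrime.ne_top
    have h4 : Order.coheight P ≤ 1 := by
      rw [Order.coheight_le_iff]
      intro s hs
      by_contra hlt
      have h2 : 2 ≤ s.length := by
        have : (1 : ℕ∞) < s.length := not_le.1 hlt
        exact_mod_cast this
      have k1 : s.head < s ⟨1, by omega⟩ := s.strictMono (by simp [Fin.lt_def])
      have k2 : s ⟨1, by omega⟩ < s ⟨2, by omega⟩ := s.strictMono (by simp [Fin.lt_def])
      have k3 : toPt _ P ⤳ toPt _ (s ⟨1, by omega⟩) := (toPt_specializes_iff _ _ _).2 (hs.trans k1.le)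
      rw [hP] at k3
      rcases h3 _ k3 (toPt_specializes _ _) with e | e
      · exact (hs.trans_lt k1).ne (toPt_injective _ (e.trans hP.symm)).symm
      · replace e := e.trans (toPt_closedPoint (y i.castSucc)).symm
        exact k2.not_ge (IsLocalRing.le_maximalIdeal (s ⟨2, by omega⟩).isPrime.ne_top |>.trans
          (le_of_eq (congrArg PrimeSpectrum.asIdeal (toPt_injective _ e).symm)))
    have h5 := coheight_eq_dim_quotient P
    rw [ringKrullDim_eq_natDim] at h5
    have h6 : Order.coheight P = (natDim (Y.presheaf.stalk (y i.castSucc) ⧸ P.asIdeal) : ℕ∞) := by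
      exact_mod_cast h5
    rw [h6] at h4
    exact_mod_cast h4
  have hlast : cN S (Fin.last k) = 0 := by simp [cN, S, cod_self]
  have hb : ∀ i : Fin k, 1 ≤ bN S i := fun i => by
    simp only [bN, S, Fin.snoc_castSucc]
    exact cod_pos (hup i).1 (hup i).2
  suffices fold k (cN S) (bN S) = 0 by omega
  have key : ∀ (m : ℕ) (c : Fin (m + 1) → ℕ) (b : Fin m → ℕ), (∀ i, 1 ≤ b i) →
      (∀ i : Fin m, c i.castSucc ≤ 1) → fold m c b ≤ c (Fin.last m) := by
    intro m
    induction m with
    | zero => intro c b _ _; exact le_rfl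
    | succ m ih =>
      intro c b hb hc
      have h1 := ih (c ∘ Fin.castSucc) (b ∘ Fin.castSucc) (fun i => hb _) (fun i => hc _)
      have h2 := hc (Fin.last m)
      have h3 := hb (Fin.last m)
      simp only [fold, Function.comp_apply] at h1 ⊢
      omega
  have := key k _ _ hb hc
  omega

theorem dim_bound_fold (δ : Y → ℤ) (hlow : ∀ {a b : Y}, a ⤳ b → (cod a b : ℤ) ≤ δ a - δ b)
    (hup : ∀ {a b : Y}, a ⤳ b → δ a - δ b ≤ (cod a b : ℤ)) :
    ∀ (k : ℕ) {y : Y} (S : Algz.DSystem Z y k), δ y - δ (S.v 0) ≤ (fold k (cN S) (bN S) : ℤ)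
  | 0, y, S => by
    have h := hup (S.spec 0)
    rw [show S.w 0 = y from S.last_eq] at h
    simp only [fold, cN]
    rw [show S.w 0 = y from S.last_eq]
    exact h
  | k + 1, y, S => by
    let S₀ : Algz.DSystem Z (S.w (Fin.castSucc (Fin.last k))) k :=
      { v := fun i => S.v i.castSucc
        w := fun i => S.w i.castSucc
        spec := fun i => S.spec _
        spec_succ := fun i => by
          have := S.spec_succ i.castSucc
          rwa [Fin.succ_castSucc] at this
        start_mem := S.start_mem
        last_eq := rfl }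
    have h1 := dim_bound_fold δ hlow hup k S₀
    have h2 := hlow (S.spec_succ (Fin.last k))
    have h3 := hup (S.spec (Fin.last (k + 1)))
    rw [S.last_eq] at h3
    rw [Fin.succ_last] at h2
    have ec : cN S₀ = cN S ∘ Fin.castSucc := rfl
    have eb : bN S₀ = bN S ∘ Fin.castSucc := funext fun i => by
      show cod _ _ = cod _ _
      simp only [S₀, Fin.succ_castSucc]
    rw [ec, eb] at h1
    simp only [fold, cN, bN, Fin.succ_last, Nat.succ_eq_add_one] at h1 h2 ⊢
    rw [S.last_eq]
    change δ (S.w (Fin.castSucc (Fin.last k))) - δ (S.v 0) ≤ _ at h1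
    omega

theorem dimFun_le (δ : Y → ℤ) (hδ : Cyc.IsDimFun Y δ) {n : ℕ} (hn : Algz.deltaZ Z y = n) :
    ∃ z ∈ Z, δ y ≤ n + δ z := by
  obtain ⟨k, S, hS⟩ := exists_system hn
  refine ⟨S.v 0, S.start_mem, ?_⟩
  have := dim_bound_fold δ (fun h => (AlgSpLib.cod_eq_dimFun hδ h).le)
    (fun h => (AlgSpLib.cod_eq_dimFun hδ h).ge) k S
  omega


theorem deltaZ_le_dim_quotient {z : Y} (P : PrimeSpectrum (Y.presheaf.stalk z)) (hz : z ∈ Z) :
    ((Algz.deltaZ Z (toPt z P) : ℕ∞) : WithBot ℕ∞) ≤ ringKrullDim (↥(Y.presheaf.stalk z) ⧸ P.asIdeal) := by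
  haveI := isLocalRing_quotient P.asIdeal P.isPrime.ne_top
  have := deltaZ_le_cod (toPt_specializes z P) hz
  rw [cod_toPt] at this
  rw [ringKrullDim_eq_natDim]
  exact WithBot.coe_le_coe.2 this

section Local

variable {A : Type u} [CommRing A] [IsNoetherianRing A] [IsLocalRing A]

theorem coheight_eq_natDim (Q : PrimeSpectrum A) : Order.coheight Q = (natDim (A ⧸ Q.asIdeal) : ℕ∞) := by
  haveI := isLocalRing_quotient Q.asIdeal Q.isPrime.ne_top
  have h := coheight_eq_dim_quotient Q
  rw [ringKrullDim_eq_natDim] at h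
  exact_mod_cast h

theorem exists_saturated (Q : PrimeSpectrum A) : ∃ s : LTSeries (PrimeSpectrum A), s.head = Q ∧
    s.last = IsLocalRing.closedPoint A ∧ (∀ i : Fin s.length, s i.castSucc ⋖ s i.succ) ∧
    s.length = natDim (A ⧸ Q.asIdeal) := by
  obtain ⟨s, hs, hlen⟩ := Order.exists_series_of_le_coheight Q (coheight_eq_natDim Q).ge
  have hmax : ∀ t : LTSeries (PrimeSpectrum A), t.head = Q → t.length ≤ s.length := fun t ht => by
    have := Order.length_le_coheight (x := Q) (p := t) ht.ge
    rw [coheight_eq_natDim] at this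
    exact hlen ▸ (by exact_mod_cast this)
  refine ⟨s, hs, ?_, fun i => ⟨s.step i, fun c h1 h2 => ?_⟩, hlen⟩
  · by_contra hne
    have hlt : s.last < IsLocalRing.closedPoint A :=
      lt_of_le_of_ne (IsLocalRing.le_maximalIdeal s.last.isPrime.ne_top) hne
    have := hmax (s.snoc _ hlt) (by simp [hs])
    simp at this
  · have := hmax (s.insertNth i c h1 h2) (by
      have e := Fin.insertNth_apply_succAbove (α := fun _ => PrimeSpectrum A) i.succ.castSucc c s.toFun 0
      rw [Fin.succAbove_ne_zero_zero (by simp [Fin.ext_iff])] at e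
      exact e.trans hs)
    simp at this

theorem natDim_of_covBy (hA : CAlg.IsCatenary A) {x y : PrimeSpectrum A} (hcov : x ⋖ y) :
    natDim (A ⧸ x.asIdeal) = natDim (A ⧸ y.asIdeal) + 1 := by
  obtain ⟨s, hs0, hsl, hsc, hsn⟩ := exists_saturated x
  obtain ⟨t, ht0, htl, htc, htn⟩ := exists_saturated y
  have hcov' : ∀ i : Fin (t.length + 1), (Fin.cons x t.toFun : Fin (t.length + 2) → PrimeSpectrum A) i.castSucc ⋖
      (Fin.cons x t.toFun : Fin (t.length + 2) → PrimeSpectrum A) i.succ := by
    intro i
    induction i using Fin.cases with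
    | zero =>
      rw [Fin.castSucc_zero, Fin.cons_zero, Fin.cons_succ]
      exact (show t.toFun 0 = y from ht0) ▸ hcov
    | succ i =>
      rw [← Fin.succ_castSucc, Fin.cons_succ, Fin.cons_succ]
      exact htc i
  let t' : LTSeries (PrimeSpectrum A) :=
    { length := t.length + 1, toFun := Fin.cons x t.toFun, step := fun i => (hcov' i).lt }
  have := hA.2 s t' (hs0.trans rfl) (hsl.trans (htl.symm.trans
    (Fin.cons_succ (α := fun _ => PrimeSpectrum A) x t.toFun (Fin.last t.length)).symm)) hsc hcov'
  rw [← hsn, ← htn, this]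

theorem isDimFun_natDim (hA : CAlg.IsCatenary A) :
    Cyc.IsDimFun (Spec (CommRingCat.of A))
      fun Q => (natDim (A ⧸ (Q : PrimeSpectrum A).asIdeal) : ℤ) := by
  intro x y h hne
  obtain ⟨x', rfl⟩ : ∃ x' : PrimeSpectrum A, x' = x := ⟨x, rfl⟩
  obtain ⟨y', rfl⟩ : ∃ y' : PrimeSpectrum A, y' = y := ⟨y, rfl⟩
  have hle : x' ≤ y' := (PrimeSpectrum.le_iff_specializes x' y').2 h
  refine ⟨Int.ofNat_lt.2 (natDim_quotient_lt x' y' (lt_of_le_of_ne hle hne)), fun himm => ?_⟩
  have := natDim_of_covBy hA (x := x') (y := y') ⟨lt_of_le_of_ne hle hne, fun z h1 h2 => by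
    rcases himm z ((PrimeSpectrum.le_iff_specializes x' z).1 h1.le) ((PrimeSpectrum.le_iff_specializes z y').1 h2.le)
      with e | e
    · exact h1.ne e.symm
    · exact h2.ne e⟩
  simp only [this]
  push_cast
  rfl

theorem deltaZ_closedPoint (hA : CAlg.IsCatenary A) (y : Spec (CommRingCat.of A)) :
    ((Algz.deltaZ ({IsLocalRing.closedPoint A} : Set (Spec (CommRingCat.of A))) y : ℕ∞) : WithBot ℕ∞) =
      ringKrullDim (A ⧸ y.asIdeal) := by
  haveI : IsNoetherian (Spec (CommRingCat.of A)) := inferInstance
  haveI := isLocalRing_quotient y.asIdeal y.isPrime.ne_top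
  rw [ringKrullDim_eq_natDim]
  have hd := isDimFun_natDim hA
  have hy : y ⤳ IsLocalRing.closedPoint A := IsLocalRing.specializes_closedPoint y
  have h0 : natDim (A ⧸ (IsLocalRing.closedPoint A).asIdeal) = 0 := by
    have h := coheight_eq_natDim (IsLocalRing.closedPoint A)
    rw [Order.coheight_eq_zero.2 (fun (b : PrimeSpectrum A) _ => IsLocalRing.le_maximalIdeal b.isPrime.ne_top)] at h
    exact_mod_cast h.symm
  have hle : Algz.deltaZ ({IsLocalRing.closedPoint A} : Set (Spec (CommRingCat.of A))) y ≤
      (natDim (A ⧸ y.asIdeal) : ℕ∞) := by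
    refine (deltaZ_le_cod hy (Set.mem_singleton _)).trans (ENat.natCast_le_natCast.2 ?_)
    have := AlgSpLib.cod_eq_dimFun hd hy
    simp only [h0] at this
    omega
  obtain ⟨n, hn⟩ := ENat.ne_top_iff_exists.1 (ne_top_of_le_ne_top (ENat.natCast_ne_top _) hle)
  obtain ⟨z, hz, h⟩ := dimFun_le _ hd hn.symm
  rw [Set.mem_singleton_iff.1 hz, h0] at h
  rw [← hn] at hle ⊢
  have := ENat.natCast_le_natCast.1 hle
  exact congrArg _ (congrArg _ (show n = natDim (A ⧸ y.asIdeal) by omega))

end Local


theorem cod_map_opens {Y : Scheme.{u}} (U : Y.Opens) {ξ w : (U : Scheme.{u})} (h : ξ ⤳ w) :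
    cod (U.ι ξ) (U.ι w) = cod ξ w := by
  obtain ⟨P, rfl⟩ := exists_toPt h
  rw [apply_toPt U.ι, cod_toPt, cod_toPt]
  exact congrArg ENat.toNat (congrArg (WithBot.unbotD 0) (ringKrullDim_eq_of_ringEquiv
    (RingEquiv.ofBijective (Ideal.quotientMap P.asIdeal (U.ι.stalkMap w).hom le_rfl)
      ⟨Ideal.quotientMap_injective,
        Ideal.quotientMap_surjective (SurjectiveOnStalks.stalkMap_surjective U.ι w)⟩)))

theorem deltaZ_le_opens {Y : Scheme.{u}} [IsLocallyNoetherian Y] (Z : Set Y) (U : Y.Opens)
    (y : (U : Scheme.{u})) : Algz.deltaZ Z (U.ι y) ≤ Algz.deltaZ (U.ι ⁻¹' Z) y := by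
  refine le_iInf₂ fun k S => ?_
  let S' : Algz.DSystem Z (U.ι y) k :=
    { v := fun i => U.ι (S.v i)
      w := fun i => U.ι (S.w i)
      spec := fun i => (S.spec i).map U.ι.continuous
      spec_succ := fun i => (S.spec_succ i).map U.ι.continuous
      start_mem := S.start_mem
      last_eq := congrArg _ S.last_eq }
  refine (deltaZ_le S').trans (le_of_eq ?_)
  rw [delta_eq, delta_eq, show cN S' = cN S from funext fun i => cod_map_opens U (S.spec i),
    show bN S' = bN S from funext fun i => cod_map_opens U (S.spec_succ i)]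

end Groth.Agent.AlgzDZLib
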